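import Mathlib
import Cfsg.Agent.Lib.Helper6.ChevLeviData.Tab

/-!
# Tables for the Levi decomposition: the grading, type E8, first half (helper6)
-/

set_option autoImplicit false

namespace Cfsg.Agent.Lib.Helper6.ChevLevi

open Cfsg.Lie

set_option maxHeartbeats 0 in
set_option maxRecDepth 100000 in
theorem gradc_E8a_0 : gradTabL chevE8 rcE8 (List.range' 0 10) := by
  decide +kernel

set_option maxHeartbeats 0 in
set_option maxRecDepth 100000 in
theorem gradc_E8a_1 : gradTabL chevE8 rcE8 (List.range' 10 10) := by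
  decide +kernel

set_option maxHeartbeats 0 in
set_option maxRecDepth 100000 in
theorem gradc_E8a_2 : gradTabL chevE8 rcE8 (List.range' 20 10) := by
  decide +kernel

set_option maxHeartbeats 0 in
set_option maxRecDepth 100000 in
theorem gradc_E8a_3 : gradTabL chevE8 rcE8 (List.range' 30 10) := by
  decide +kernel

set_option maxHeartbeats 0 in
set_option maxRecDepth 100000 in
theorem gradc_E8a_4 : gradTabL chevE8 rcE8 (List.range' 40 10) := by
  decide +kernel

set_option maxHeartbeats 0 in
set_option maxRecDepth 100000 in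
theorem gradc_E8a_5 : gradTabL chevE8 rcE8 (List.range' 50 10) := by
  decide +kernel

set_option maxHeartbeats 0 in
set_option maxRecDepth 100000 in
theorem gradc_E8a_6 : gradTabL chevE8 rcE8 (List.range' 60 10) := by
  decide +kernel

set_option maxHeartbeats 0 in
set_option maxRecDepth 100000 in
theorem gradc_E8a_7 : gradTabL chevE8 rcE8 (List.range' 70 10) := by
  decide +kernel

set_option maxHeartbeats 0 in
set_option maxRecDepth 100000 in
theorem gradc_E8a_8 : gradTabL chevE8 rcE8 (List.range' 80 10) := by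
  decide +kernel

set_option maxHeartbeats 0 in
set_option maxRecDepth 100000 in
theorem gradc_E8a_9 : gradTabL chevE8 rcE8 (List.range' 90 10) := by
  decide +kernel

set_option maxHeartbeats 0 in
set_option maxRecDepth 100000 in
theorem gradc_E8a_10 : gradTabL chevE8 rcE8 (List.range' 100 10) := by
  decide +kernel

set_option maxHeartbeats 0 in
set_option maxRecDepth 100000 in
theorem gradc_E8a_11 : gradTabL chevE8 rcE8 (List.range' 110 10) := by
  decide +kernel

theorem grad_E8a (r : ℕ) (hr : r < 120) : gradTab chevE8 rcE8 r := by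
  by_cases h0 : r < 10
  · exact gradc_E8a_0 r (List.mem_range'_1.mpr ⟨by omega, by omega⟩)
  by_cases h1 : r < 20
  · exact gradc_E8a_1 r (List.mem_range'_1.mpr ⟨by omega, by omega⟩)
  by_cases h2 : r < 30
  · exact gradc_E8a_2 r (List.mem_range'_1.mpr ⟨by omega, by omega⟩)
  by_cases h3 : r < 40
  · exact gradc_E8a_3 r (List.mem_range'_1.mpr ⟨by omega, by omega⟩)
  by_cases h4 : r < 50
  · exact gradc_E8a_4 r (List.mem_range'_1.mpr ⟨by omega, by omega⟩)
  by_cases h5 : r < 60
  · exact gradc_E8a_5 r (List.mem_range'_1.mpr ⟨by omega, by omega⟩)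
  by_cases h6 : r < 70
  · exact gradc_E8a_6 r (List.mem_range'_1.mpr ⟨by omega, by omega⟩)
  by_cases h7 : r < 80
  · exact gradc_E8a_7 r (List.mem_range'_1.mpr ⟨by omega, by omega⟩)
  by_cases h8 : r < 90
  · exact gradc_E8a_8 r (List.mem_range'_1.mpr ⟨by omega, by omega⟩)
  by_cases h9 : r < 100
  · exact gradc_E8a_9 r (List.mem_range'_1.mpr ⟨by omega, by omega⟩)
  by_cases h10 : r < 110
  · exact gradc_E8a_10 r (List.mem_range'_1.mpr ⟨by omega, by omega⟩)
  exact gradc_E8a_11 r (List.mem_range'_1.mpr ⟨by omega, by omega⟩)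

end Cfsg.Agent.Lib.Helper6.ChevLevi
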