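import Mathlib
import Cfsg.Agent.Lib.Helper6.ChevLeviData.Tab

/-!
# Tables for the Levi decomposition: the grading, type E8, second half (helper6)
-/

set_option autoImplicit false

namespace Cfsg.Agent.Lib.Helper6.ChevLevi

open Cfsg.Lie

set_option maxHeartbeats 0 in
set_option maxRecDepth 100000 in
theorem gradc_E8b_0 : gradTabL chevE8 rcE8 (List.range' 120 10) := by
  decide +kernel

set_option maxHeartbeats 0 in
set_option maxRecDepth 100000 in
theorem gradc_E8b_1 : gradTabL chevE8 rcE8 (List.range' 130 10) := by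
  decide +kernel

set_option maxHeartbeats 0 in
set_option maxRecDepth 100000 in
theorem gradc_E8b_2 : gradTabL chevE8 rcE8 (List.range' 140 10) := by
  decide +kernel

set_option maxHeartbeats 0 in
set_option maxRecDepth 100000 in
theorem gradc_E8b_3 : gradTabL chevE8 rcE8 (List.range' 150 10) := by
  decide +kernel

set_option maxHeartbeats 0 in
set_option maxRecDepth 100000 in
theorem gradc_E8b_4 : gradTabL chevE8 rcE8 (List.range' 160 10) := by
  decide +kernel

set_option maxHeartbeats 0 in
set_option maxRecDepth 100000 in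
theorem gradc_E8b_5 : gradTabL chevE8 rcE8 (List.range' 170 10) := by
  decide +kernel

set_option maxHeartbeats 0 in
set_option maxRecDepth 100000 in
theorem gradc_E8b_6 : gradTabL chevE8 rcE8 (List.range' 180 10) := by
  decide +kernel

set_option maxHeartbeats 0 in
set_option maxRecDepth 100000 in
theorem gradc_E8b_7 : gradTabL chevE8 rcE8 (List.range' 190 10) := by
  decide +kernel

set_option maxHeartbeats 0 in
set_option maxRecDepth 100000 in
theorem gradc_E8b_8 : gradTabL chevE8 rcE8 (List.range' 200 10) := by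
  decide +kernel

set_option maxHeartbeats 0 in
set_option maxRecDepth 100000 in
theorem gradc_E8b_9 : gradTabL chevE8 rcE8 (List.range' 210 10) := by
  decide +kernel

set_option maxHeartbeats 0 in
set_option maxRecDepth 100000 in
theorem gradc_E8b_10 : gradTabL chevE8 rcE8 (List.range' 220 10) := by
  decide +kernel

set_option maxHeartbeats 0 in
set_option maxRecDepth 100000 in
theorem gradc_E8b_11 : gradTabL chevE8 rcE8 (List.range' 230 10) := by
  decide +kernel

theorem grad_E8b (r : ℕ) (h1 : 120 ≤ r) (hr : r < 240) : gradTab chevE8 rcE8 r := by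
  by_cases h0 : r < 130
  · exact gradc_E8b_0 r (List.mem_range'_1.mpr ⟨by omega, by omega⟩)
  by_cases h1 : r < 140
  · exact gradc_E8b_1 r (List.mem_range'_1.mpr ⟨by omega, by omega⟩)
  by_cases h2 : r < 150
  · exact gradc_E8b_2 r (List.mem_range'_1.mpr ⟨by omega, by omega⟩)
  by_cases h3 : r < 160
  · exact gradc_E8b_3 r (List.mem_range'_1.mpr ⟨by omega, by omega⟩)
  by_cases h4 : r < 170
  · exact gradc_E8b_4 r (List.mem_range'_1.mpr ⟨by omega, by omega⟩)
  by_cases h5 : r < 180
  · exact gradc_E8b_5 r (List.mem_range'_1.mpr ⟨by omega, by omega⟩)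
  by_cases h6 : r < 190
  · exact gradc_E8b_6 r (List.mem_range'_1.mpr ⟨by omega, by omega⟩)
  by_cases h7 : r < 200
  · exact gradc_E8b_7 r (List.mem_range'_1.mpr ⟨by omega, by omega⟩)
  by_cases h8 : r < 210
  · exact gradc_E8b_8 r (List.mem_range'_1.mpr ⟨by omega, by omega⟩)
  by_cases h9 : r < 220
  · exact gradc_E8b_9 r (List.mem_range'_1.mpr ⟨by omega, by omega⟩)
  by_cases h10 : r < 230
  · exact gradc_E8b_10 r (List.mem_range'_1.mpr ⟨by omega, by omega⟩)
  exact gradc_E8b_11 r (List.mem_range'_1.mpr ⟨by omega, by omega⟩)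

end Cfsg.Agent.Lib.Helper6.ChevLevi
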