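import Mathlib
import Cfsg.Agent.Lib.Helper6.ChevLeviData.Tab

/-!
# Tables for the Levi decomposition: the grading, small types (helper6)
-/

set_option autoImplicit false

namespace Cfsg.Agent.Lib.Helper6.ChevLevi

open Cfsg.Lie

set_option maxHeartbeats 0 in
set_option maxRecDepth 100000 in
theorem gradc_G2_0 : gradTabL chevG2 rcG2 (List.range' 0 12) := by
  decide +kernel

theorem grad_G2 (r : ℕ) (hr : r < 12) : gradTab chevG2 rcG2 r := by
  exact gradc_G2_0 r (List.mem_range'_1.mpr ⟨by omega, by omega⟩)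

set_option maxHeartbeats 0 in
set_option maxRecDepth 100000 in
theorem gradc_B2_0 : gradTabL chevB2 rcB2 (List.range' 0 8) := by
  decide +kernel

theorem grad_B2 (r : ℕ) (hr : r < 8) : gradTab chevB2 rcB2 r := by
  exact gradc_B2_0 r (List.mem_range'_1.mpr ⟨by omega, by omega⟩)

set_option maxHeartbeats 0 in
set_option maxRecDepth 100000 in
theorem gradc_D4_0 : gradTabL chevD4 rcD4 (List.range' 0 24) := by
  decide +kernel

theorem grad_D4 (r : ℕ) (hr : r < 24) : gradTab chevD4 rcD4 r := by
  exact gradc_D4_0 r (List.mem_range'_1.mpr ⟨by omega, by omega⟩)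

set_option maxHeartbeats 0 in
set_option maxRecDepth 100000 in
theorem gradc_F4_0 : gradTabL chevF4 rcF4 (List.range' 0 48) := by
  decide +kernel

theorem grad_F4 (r : ℕ) (hr : r < 48) : gradTab chevF4 rcF4 r := by
  exact gradc_F4_0 r (List.mem_range'_1.mpr ⟨by omega, by omega⟩)

set_option maxHeartbeats 0 in
set_option maxRecDepth 100000 in
theorem gradc_E6_0 : gradTabL chevE6 rcE6 (List.range' 0 72) := by
  decide +kernel

theorem grad_E6 (r : ℕ) (hr : r < 72) : gradTab chevE6 rcE6 r := by
  exact gradc_E6_0 r (List.mem_range'_1.mpr ⟨by omega, by omega⟩)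

end Cfsg.Agent.Lib.Helper6.ChevLevi
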