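import Mathlib
import Cfsg.Agent.Lib.Helper6.ChevLeviData.Tab

/-!
# Tables for the Levi decomposition: the signs, type E7 (helper6)
-/

set_option autoImplicit false

namespace Cfsg.Agent.Lib.Helper6.ChevLevi

open Cfsg.Lie

set_option maxHeartbeats 0 in
set_option maxRecDepth 100000 in
theorem sgnc_E7_neg : sgnTabL chevE7 (List.range' 0 63) := by
  decide +kernel

set_option maxHeartbeats 0 in
set_option maxRecDepth 100000 in
theorem sgnc_E7_0 : sgnTabL chevE7 (List.range' 63 7) := by
  decide +kernel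

set_option maxHeartbeats 0 in
set_option maxRecDepth 100000 in
theorem sgnc_E7_1 : sgnTabL chevE7 (List.range' 70 7) := by
  decide +kernel

set_option maxHeartbeats 0 in
set_option maxRecDepth 100000 in
theorem sgnc_E7_2 : sgnTabL chevE7 (List.range' 77 7) := by
  decide +kernel

set_option maxHeartbeats 0 in
set_option maxRecDepth 100000 in
theorem sgnc_E7_3 : sgnTabL chevE7 (List.range' 84 7) := by
  decide +kernel

set_option maxHeartbeats 0 in
set_option maxRecDepth 100000 in
theorem sgnc_E7_4 : sgnTabL chevE7 (List.range' 91 7) := by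
  decide +kernel

set_option maxHeartbeats 0 in
set_option maxRecDepth 100000 in
theorem sgnc_E7_5 : sgnTabL chevE7 (List.range' 98 7) := by
  decide +kernel

set_option maxHeartbeats 0 in
set_option maxRecDepth 100000 in
theorem sgnc_E7_6 : sgnTabL chevE7 (List.range' 105 7) := by
  decide +kernel

set_option maxHeartbeats 0 in
set_option maxRecDepth 100000 in
theorem sgnc_E7_7 : sgnTabL chevE7 (List.range' 112 7) := by
  decide +kernel

set_option maxHeartbeats 0 in
set_option maxRecDepth 100000 in
theorem sgnc_E7_8 : sgnTabL chevE7 (List.range' 119 7) := by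
  decide +kernel

theorem sgn_E7 (r : ℕ) (hr : r < 126) : sgnTab chevE7 r := by
  by_cases h0 : r < 63
  · exact sgnc_E7_neg r (List.mem_range'_1.mpr ⟨by omega, by omega⟩)
  by_cases h1 : r < 70
  · exact sgnc_E7_0 r (List.mem_range'_1.mpr ⟨by omega, by omega⟩)
  by_cases h2 : r < 77
  · exact sgnc_E7_1 r (List.mem_range'_1.mpr ⟨by omega, by omega⟩)
  by_cases h3 : r < 84
  · exact sgnc_E7_2 r (List.mem_range'_1.mpr ⟨by omega, by omega⟩)
  by_cases h4 : r < 91
  · exact sgnc_E7_3 r (List.mem_range'_1.mpr ⟨by omega, by omega⟩)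
  by_cases h5 : r < 98
  · exact sgnc_E7_4 r (List.mem_range'_1.mpr ⟨by omega, by omega⟩)
  by_cases h6 : r < 105
  · exact sgnc_E7_5 r (List.mem_range'_1.mpr ⟨by omega, by omega⟩)
  by_cases h7 : r < 112
  · exact sgnc_E7_6 r (List.mem_range'_1.mpr ⟨by omega, by omega⟩)
  by_cases h8 : r < 119
  · exact sgnc_E7_7 r (List.mem_range'_1.mpr ⟨by omega, by omega⟩)
  exact sgnc_E7_8 r (List.mem_range'_1.mpr ⟨by omega, by omega⟩)

end Cfsg.Agent.Lib.Helper6.ChevLevi
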