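import Mathlib
import Cfsg.Agent.Lib.Helper6.ChevLeviData.Tab

/-!
# Tables for the Levi decomposition: the signs, type E8, part A (helper6)
-/

set_option autoImplicit false

namespace Cfsg.Agent.Lib.Helper6.ChevLevi

open Cfsg.Lie

set_option maxHeartbeats 0 in
set_option maxRecDepth 100000 in
theorem sgnc_E8A_neg : sgnTabL chevE8 (List.range' 0 120) := by
  decide +kernel

set_option maxHeartbeats 0 in
set_option maxRecDepth 100000 in
theorem sgnc_E8A_0 : sgnTabL chevE8 (List.range' 120 3) := by
  decide +kernel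

set_option maxHeartbeats 0 in
set_option maxRecDepth 100000 in
theorem sgnc_E8A_1 : sgnTabL chevE8 (List.range' 123 3) := by
  decide +kernel

set_option maxHeartbeats 0 in
set_option maxRecDepth 100000 in
theorem sgnc_E8A_2 : sgnTabL chevE8 (List.range' 126 3) := by
  decide +kernel

set_option maxHeartbeats 0 in
set_option maxRecDepth 100000 in
theorem sgnc_E8A_3 : sgnTabL chevE8 (List.range' 129 3) := by
  decide +kernel

set_option maxHeartbeats 0 in
set_option maxRecDepth 100000 in
theorem sgnc_E8A_4 : sgnTabL chevE8 (List.range' 132 3) := by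
  decide +kernel

set_option maxHeartbeats 0 in
set_option maxRecDepth 100000 in
theorem sgnc_E8A_5 : sgnTabL chevE8 (List.range' 135 3) := by
  decide +kernel

set_option maxHeartbeats 0 in
set_option maxRecDepth 100000 in
theorem sgnc_E8A_6 : sgnTabL chevE8 (List.range' 138 3) := by
  decide +kernel

set_option maxHeartbeats 0 in
set_option maxRecDepth 100000 in
theorem sgnc_E8A_7 : sgnTabL chevE8 (List.range' 141 3) := by
  decide +kernel

set_option maxHeartbeats 0 in
set_option maxRecDepth 100000 in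
theorem sgnc_E8A_8 : sgnTabL chevE8 (List.range' 144 3) := by
  decide +kernel

set_option maxHeartbeats 0 in
set_option maxRecDepth 100000 in
theorem sgnc_E8A_9 : sgnTabL chevE8 (List.range' 147 3) := by
  decide +kernel

theorem sgn_E8A (r : ℕ) (hr : r < 150) : sgnTab chevE8 r := by
  by_cases h0 : r < 120
  · exact sgnc_E8A_neg r (List.mem_range'_1.mpr ⟨by omega, by omega⟩)
  by_cases h1 : r < 123
  · exact sgnc_E8A_0 r (List.mem_range'_1.mpr ⟨by omega, by omega⟩)
  by_cases h2 : r < 126
  · exact sgnc_E8A_1 r (List.mem_range'_1.mpr ⟨by omega, by omega⟩)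
  by_cases h3 : r < 129
  · exact sgnc_E8A_2 r (List.mem_range'_1.mpr ⟨by omega, by omega⟩)
  by_cases h4 : r < 132
  · exact sgnc_E8A_3 r (List.mem_range'_1.mpr ⟨by omega, by omega⟩)
  by_cases h5 : r < 135
  · exact sgnc_E8A_4 r (List.mem_range'_1.mpr ⟨by omega, by omega⟩)
  by_cases h6 : r < 138
  · exact sgnc_E8A_5 r (List.mem_range'_1.mpr ⟨by omega, by omega⟩)
  by_cases h7 : r < 141
  · exact sgnc_E8A_6 r (List.mem_range'_1.mpr ⟨by omega, by omega⟩)
  by_cases h8 : r < 144
  · exact sgnc_E8A_7 r (List.mem_range'_1.mpr ⟨by omega, by omega⟩)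
  by_cases h9 : r < 147
  · exact sgnc_E8A_8 r (List.mem_range'_1.mpr ⟨by omega, by omega⟩)
  exact sgnc_E8A_9 r (List.mem_range'_1.mpr ⟨by omega, by omega⟩)

end Cfsg.Agent.Lib.Helper6.ChevLevi
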