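import Mathlib
import Cfsg.Agent.Lib.Helper6.ChevLeviData.Tab

/-!
# Tables for the Levi decomposition: the signs, type E8, part B (helper6)
-/

set_option autoImplicit false

namespace Cfsg.Agent.Lib.Helper6.ChevLevi

open Cfsg.Lie

set_option maxHeartbeats 0 in
set_option maxRecDepth 100000 in
theorem sgnc_E8B_0 : sgnTabL chevE8 (List.range' 150 3) := by
  decide +kernel

set_option maxHeartbeats 0 in
set_option maxRecDepth 100000 in
theorem sgnc_E8B_1 : sgnTabL chevE8 (List.range' 153 3) := by
  decide +kernel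

set_option maxHeartbeats 0 in
set_option maxRecDepth 100000 in
theorem sgnc_E8B_2 : sgnTabL chevE8 (List.range' 156 3) := by
  decide +kernel

set_option maxHeartbeats 0 in
set_option maxRecDepth 100000 in
theorem sgnc_E8B_3 : sgnTabL chevE8 (List.range' 159 3) := by
  decide +kernel

set_option maxHeartbeats 0 in
set_option maxRecDepth 100000 in
theorem sgnc_E8B_4 : sgnTabL chevE8 (List.range' 162 3) := by
  decide +kernel

set_option maxHeartbeats 0 in
set_option maxRecDepth 100000 in
theorem sgnc_E8B_5 : sgnTabL chevE8 (List.range' 165 3) := by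
  decide +kernel

set_option maxHeartbeats 0 in
set_option maxRecDepth 100000 in
theorem sgnc_E8B_6 : sgnTabL chevE8 (List.range' 168 3) := by
  decide +kernel

set_option maxHeartbeats 0 in
set_option maxRecDepth 100000 in
theorem sgnc_E8B_7 : sgnTabL chevE8 (List.range' 171 3) := by
  decide +kernel

set_option maxHeartbeats 0 in
set_option maxRecDepth 100000 in
theorem sgnc_E8B_8 : sgnTabL chevE8 (List.range' 174 3) := by
  decide +kernel

set_option maxHeartbeats 0 in
set_option maxRecDepth 100000 in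
theorem sgnc_E8B_9 : sgnTabL chevE8 (List.range' 177 3) := by
  decide +kernel

theorem sgn_E8B (r : ℕ) (h1 : 150 ≤ r) (hr : r < 180) : sgnTab chevE8 r := by
  by_cases h0 : r < 153
  · exact sgnc_E8B_0 r (List.mem_range'_1.mpr ⟨by omega, by omega⟩)
  by_cases h1 : r < 156
  · exact sgnc_E8B_1 r (List.mem_range'_1.mpr ⟨by omega, by omega⟩)
  by_cases h2 : r < 159
  · exact sgnc_E8B_2 r (List.mem_range'_1.mpr ⟨by omega, by omega⟩)
  by_cases h3 : r < 162
  · exact sgnc_E8B_3 r (List.mem_range'_1.mpr ⟨by omega, by omega⟩)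
  by_cases h4 : r < 165
  · exact sgnc_E8B_4 r (List.mem_range'_1.mpr ⟨by omega, by omega⟩)
  by_cases h5 : r < 168
  · exact sgnc_E8B_5 r (List.mem_range'_1.mpr ⟨by omega, by omega⟩)
  by_cases h6 : r < 171
  · exact sgnc_E8B_6 r (List.mem_range'_1.mpr ⟨by omega, by omega⟩)
  by_cases h7 : r < 174
  · exact sgnc_E8B_7 r (List.mem_range'_1.mpr ⟨by omega, by omega⟩)
  by_cases h8 : r < 177
  · exact sgnc_E8B_8 r (List.mem_range'_1.mpr ⟨by omega, by omega⟩)
  exact sgnc_E8B_9 r (List.mem_range'_1.mpr ⟨by omega, by omega⟩)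

end Cfsg.Agent.Lib.Helper6.ChevLevi
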