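import Mathlib
import Cfsg.Agent.Lib.Helper6.ChevLeviData.Tab

/-!
# Tables for the Levi decomposition: the signs, type E8, part C (helper6)
-/

set_option autoImplicit false

namespace Cfsg.Agent.Lib.Helper6.ChevLevi

open Cfsg.Lie

set_option maxHeartbeats 0 in
set_option maxRecDepth 100000 in
theorem sgnc_E8C_0 : sgnTabL chevE8 (List.range' 180 3) := by
  decide +kernel

set_option maxHeartbeats 0 in
set_option maxRecDepth 100000 in
theorem sgnc_E8C_1 : sgnTabL chevE8 (List.range' 183 3) := by
  decide +kernel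

set_option maxHeartbeats 0 in
set_option maxRecDepth 100000 in
theorem sgnc_E8C_2 : sgnTabL chevE8 (List.range' 186 3) := by
  decide +kernel

set_option maxHeartbeats 0 in
set_option maxRecDepth 100000 in
theorem sgnc_E8C_3 : sgnTabL chevE8 (List.range' 189 3) := by
  decide +kernel

set_option maxHeartbeats 0 in
set_option maxRecDepth 100000 in
theorem sgnc_E8C_4 : sgnTabL chevE8 (List.range' 192 3) := by
  decide +kernel

set_option maxHeartbeats 0 in
set_option maxRecDepth 100000 in
theorem sgnc_E8C_5 : sgnTabL chevE8 (List.range' 195 3) := by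
  decide +kernel

set_option maxHeartbeats 0 in
set_option maxRecDepth 100000 in
theorem sgnc_E8C_6 : sgnTabL chevE8 (List.range' 198 3) := by
  decide +kernel

set_option maxHeartbeats 0 in
set_option maxRecDepth 100000 in
theorem sgnc_E8C_7 : sgnTabL chevE8 (List.range' 201 3) := by
  decide +kernel

set_option maxHeartbeats 0 in
set_option maxRecDepth 100000 in
theorem sgnc_E8C_8 : sgnTabL chevE8 (List.range' 204 3) := by
  decide +kernel

set_option maxHeartbeats 0 in
set_option maxRecDepth 100000 in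
theorem sgnc_E8C_9 : sgnTabL chevE8 (List.range' 207 3) := by
  decide +kernel

theorem sgn_E8C (r : ℕ) (h1 : 180 ≤ r) (hr : r < 210) : sgnTab chevE8 r := by
  by_cases h0 : r < 183
  · exact sgnc_E8C_0 r (List.mem_range'_1.mpr ⟨by omega, by omega⟩)
  by_cases h1 : r < 186
  · exact sgnc_E8C_1 r (List.mem_range'_1.mpr ⟨by omega, by omega⟩)
  by_cases h2 : r < 189
  · exact sgnc_E8C_2 r (List.mem_range'_1.mpr ⟨by omega, by omega⟩)
  by_cases h3 : r < 192
  · exact sgnc_E8C_3 r (List.mem_range'_1.mpr ⟨by omega, by omega⟩)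
  by_cases h4 : r < 195
  · exact sgnc_E8C_4 r (List.mem_range'_1.mpr ⟨by omega, by omega⟩)
  by_cases h5 : r < 198
  · exact sgnc_E8C_5 r (List.mem_range'_1.mpr ⟨by omega, by omega⟩)
  by_cases h6 : r < 201
  · exact sgnc_E8C_6 r (List.mem_range'_1.mpr ⟨by omega, by omega⟩)
  by_cases h7 : r < 204
  · exact sgnc_E8C_7 r (List.mem_range'_1.mpr ⟨by omega, by omega⟩)
  by_cases h8 : r < 207
  · exact sgnc_E8C_8 r (List.mem_range'_1.mpr ⟨by omega, by omega⟩)
  exact sgnc_E8C_9 r (List.mem_range'_1.mpr ⟨by omega, by omega⟩)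

end Cfsg.Agent.Lib.Helper6.ChevLevi
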