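import Mathlib
import Cfsg.Agent.Lib.Helper6.ChevLeviData.Tab

/-!
# Tables for the Levi decomposition: the signs, small types (helper6)
-/

set_option autoImplicit false

namespace Cfsg.Agent.Lib.Helper6.ChevLevi

open Cfsg.Lie

set_option maxHeartbeats 0 in
set_option maxRecDepth 100000 in
theorem sgnc_G2_0 : sgnTabL chevG2 (List.range' 0 12) := by
  decide +kernel

theorem sgn_G2 (r : ℕ) (hr : r < 12) : sgnTab chevG2 r := by
  exact sgnc_G2_0 r (List.mem_range'_1.mpr ⟨by omega, by omega⟩)

set_option maxHeartbeats 0 in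
set_option maxRecDepth 100000 in
theorem sgnc_B2_0 : sgnTabL chevB2 (List.range' 0 8) := by
  decide +kernel

theorem sgn_B2 (r : ℕ) (hr : r < 8) : sgnTab chevB2 r := by
  exact sgnc_B2_0 r (List.mem_range'_1.mpr ⟨by omega, by omega⟩)

set_option maxHeartbeats 0 in
set_option maxRecDepth 100000 in
theorem sgnc_D4_0 : sgnTabL chevD4 (List.range' 0 24) := by
  decide +kernel

theorem sgn_D4 (r : ℕ) (hr : r < 24) : sgnTab chevD4 r := by
  exact sgnc_D4_0 r (List.mem_range'_1.mpr ⟨by omega, by omega⟩)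

set_option maxHeartbeats 0 in
set_option maxRecDepth 100000 in
theorem sgnc_F4_0 : sgnTabL chevF4 (List.range' 0 48) := by
  decide +kernel

theorem sgn_F4 (r : ℕ) (hr : r < 48) : sgnTab chevF4 r := by
  exact sgnc_F4_0 r (List.mem_range'_1.mpr ⟨by omega, by omega⟩)

set_option maxHeartbeats 0 in
set_option maxRecDepth 100000 in
theorem sgnc_E6_neg : sgnTabL chevE6 (List.range' 0 36) := by
  decide +kernel

set_option maxHeartbeats 0 in
set_option maxRecDepth 100000 in
theorem sgnc_E6_0 : sgnTabL chevE6 (List.range' 36 9) := by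
  decide +kernel

set_option maxHeartbeats 0 in
set_option maxRecDepth 100000 in
theorem sgnc_E6_1 : sgnTabL chevE6 (List.range' 45 9) := by
  decide +kernel

set_option maxHeartbeats 0 in
set_option maxRecDepth 100000 in
theorem sgnc_E6_2 : sgnTabL chevE6 (List.range' 54 9) := by
  decide +kernel

set_option maxHeartbeats 0 in
set_option maxRecDepth 100000 in
theorem sgnc_E6_3 : sgnTabL chevE6 (List.range' 63 9) := by
  decide +kernel

theorem sgn_E6 (r : ℕ) (hr : r < 72) : sgnTab chevE6 r := by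
  by_cases h0 : r < 36
  · exact sgnc_E6_neg r (List.mem_range'_1.mpr ⟨by omega, by omega⟩)
  by_cases h1 : r < 45
  · exact sgnc_E6_0 r (List.mem_range'_1.mpr ⟨by omega, by omega⟩)
  by_cases h2 : r < 54
  · exact sgnc_E6_1 r (List.mem_range'_1.mpr ⟨by omega, by omega⟩)
  by_cases h3 : r < 63
  · exact sgnc_E6_2 r (List.mem_range'_1.mpr ⟨by omega, by omega⟩)
  exact sgnc_E6_3 r (List.mem_range'_1.mpr ⟨by omega, by omega⟩)

end Cfsg.Agent.Lib.Helper6.ChevLevi
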