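import Mathlib
import Cfsg.Agent.Lib.Helper6.ChevLeviData.GradSmall
import Cfsg.Agent.Lib.Helper6.ChevLeviData.GradE7
import Cfsg.Agent.Lib.Helper6.ChevLeviData.GradE8A
import Cfsg.Agent.Lib.Helper6.ChevLeviData.GradE8B
import Cfsg.Agent.Lib.Helper6.ChevLeviData.SgnSmall
import Cfsg.Agent.Lib.Helper6.ChevLeviData.SgnE7
import Cfsg.Agent.Lib.Helper6.ChevLeviData.SgnE8A
import Cfsg.Agent.Lib.Helper6.ChevLeviData.SgnE8B
import Cfsg.Agent.Lib.Helper6.ChevLeviData.SgnE8C
import Cfsg.Agent.Lib.Helper6.ChevLeviData.SgnE8D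

/-!
# Tables for the Levi decomposition: summary (helper6)
-/

set_option autoImplicit false

namespace Cfsg.Agent.Lib.Helper6.ChevLevi

open Cfsg.Lie

theorem grad_E8 (r : ℕ) (hr : r < 240) : gradTab chevE8 rcE8 r := by
  by_cases h : r < 120
  · exact grad_E8a r h
  · exact grad_E8b r (by omega) hr

theorem sgn_E8 (r : ℕ) (hr : r < 240) : sgnTab chevE8 r := by
  by_cases h0 : r < 150
  · exact sgn_E8A r h0
  by_cases h1 : r < 180
  · exact sgn_E8B r (by omega) h1
  by_cases h2 : r < 210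
  · exact sgn_E8C r (by omega) h2
  exact sgn_E8D r (by omega) hr

end Cfsg.Agent.Lib.Helper6.ChevLevi
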